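import Cfsg.Agent.Lib.Embed.QuadExt

/-!
Coordinates turning Hermitian and bilinear forms over the quadratic extension into forms over the small field.
-/

set_option autoImplicit false

namespace Cfsg.Agent.Lib.Embed

variable {F K : Type*} [Field F] [Field K] {q : ℕ} (D : QuadData F K q)

/-- `a + b α`. -/
def QuadData.lift (a b : F) : K := D.j a + D.j b * D.α

/-- The element with coordinates `a`, `b` in the basis dual to `1, α`. -/
def QuadData.lift' (a b : F) : K := -(D.bar D.α) * D.j a + D.j b

theorem QuadData.lift_add (a b a' b' : F) : D.lift (a + a') (b + b') = D.lift a b + D.lift a' b' := by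
  simp only [QuadData.lift, map_add]; ring

theorem QuadData.lift'_add (a b a' b' : F) : D.lift' (a + a') (b + b') = D.lift' a b + D.lift' a' b' := by
  simp only [QuadData.lift', map_add]; ring

theorem QuadData.lift_smul (r a b : F) : D.lift (r * a) (r * b) = D.j r * D.lift a b := by
  simp only [QuadData.lift, map_mul]; ring

theorem QuadData.lift'_smul (r a b : F) : D.lift' (r * a) (r * b) = D.j r * D.lift' a b := by
  simp only [QuadData.lift', map_mul]; ring

theorem QuadData.lift'_injective {a b a' b' : F} (h : D.lift' a b = D.lift' a' b') : a = a' ∧ b = b' := by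
  have h' := congrArg D.bar h
  simp only [QuadData.lift', map_add, map_mul, map_neg, D.bar_j, D.bar_bar] at h h'
  have ha : (D.j a - D.j a') * (D.α - D.bar D.α) = 0 := by linear_combination h - h'
  have ha' := D.j.injective (sub_eq_zero.mp ((mul_eq_zero.mp ha).resolve_right D.eps_ne_zero))
  subst ha'
  exact ⟨rfl, D.j.injective (add_left_cancel h)⟩

theorem QuadData.cross_lift (a₀ a₁ b₀ b₁ : F) :
    D.lift a₀ a₁ * D.bar (D.lift b₀ b₁) - D.bar (D.lift a₀ a₁) * D.lift b₀ b₁ =
      D.j (a₁ * b₀ - a₀ * b₁) * (D.α - D.bar D.α) := by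
  simp only [QuadData.lift, map_add, map_mul, map_sub, D.bar_j]; ring

theorem QuadData.pairing (a₀ a₁ c₀ c₁ : F) :
    D.lift a₀ a₁ * D.lift' c₀ c₁ - D.bar (D.lift a₀ a₁ * D.lift' c₀ c₁) =
      D.j (a₀ * c₀ + a₁ * c₁) * (D.α - D.bar D.α) := by
  simp only [QuadData.lift, QuadData.lift', map_add, map_mul, map_neg, D.bar_j, D.bar_bar]; ring

variable (c c' : K)

/-- The second isotropic component. -/
def QuadData.hypS (a' b' : F) : K := D.bar (D.lift' a' b' / ((D.α - D.bar D.α) * (1 + c * D.bar c')))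

/-- First coordinate of a hyperbolic pair of norms. -/
def QuadData.hypX (a b a' b' : F) : K := D.lift a b + D.hypS c c' a' b'

/-- Second coordinate of a hyperbolic pair of norms. -/
def QuadData.hypY (a b a' b' : F) : K := c * D.lift a b + c' * D.hypS c c' a' b'

variable {c c'}

theorem QuadData.gamma_ne_zero (hc : c * D.bar c = -1) (hcc : c' ≠ c) : 1 + c * D.bar c' ≠ 0 := by
  intro h
  have hc0 : c ≠ 0 := fun h0 => by rw [h0, zero_mul] at hc; exact neg_ne_zero.mpr one_ne_zero hc.symm
  have : D.bar c' = D.bar c := mul_left_cancel₀ hc0 (by linear_combination h - hc)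
  exact hcc (D.bar.injective this)

theorem QuadData.hyp_norm (hc : c * D.bar c = -1) (hc' : c' * D.bar c' = -1) (hcc : c' ≠ c) (a b a' b' : F) :
    D.hypX c c' a b a' b' * D.bar (D.hypX c c' a b a' b') + D.hypY c c' a b a' b' * D.bar (D.hypY c c' a b a' b') =
      D.j (a * a' + b * b') := by
  have hγ := D.gamma_ne_zero hc hcc
  have hε := D.eps_ne_zero
  have hγ' : D.bar (1 + c * D.bar c') ≠ 0 := (map_ne_zero_iff _ D.bar.injective).mpr hγ
  have hε' : D.bar (D.α - D.bar D.α) ≠ 0 := (map_ne_zero_iff _ D.bar.injective).mpr hε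
  set t := D.lift a b with ht
  set z := D.lift' a' b' with hz
  set s := D.hypS c c' a' b' with hs
  set ε := D.α - D.bar D.α with he
  set γ := 1 + c * D.bar c' with hg
  have hsb : D.bar s = z / (ε * γ) := by rw [hs, QuadData.hypS, D.bar_bar, hz, he, hg]
  have e1 : t * D.bar s * γ = t * z / ε := by rw [hsb]; field_simp
  have e2 : D.bar t * s * D.bar γ = -(D.bar (t * z) / ε) := by
    have := congrArg D.bar e1
    rw [map_mul, map_mul, D.bar_bar, map_div₀, show D.bar ε = -ε from D.bar_eps, div_neg] at this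
    exact this
  have p := D.pairing a b a' b'
  rw [← ht, ← hz, ← he] at p
  have key : D.j (a * a' + b * b') = t * z / ε - D.bar (t * z) / ε := by
    rw [← sub_div, p, mul_div_cancel_right₀ _ hε]
  rw [key]
  simp only [QuadData.hypX, QuadData.hypY, ← ht, ← hs, map_add, map_mul]
  rw [hg, map_add, map_one, map_mul, D.bar_bar] at e2
  rw [hg] at e1
  simp only [map_mul] at e2 ⊢
  linear_combination e1 + e2 + (t * D.bar t) * hc + (s * D.bar s) * hc'

theorem QuadData.hyp_injective (hc : c * D.bar c = -1) (hcc : c' ≠ c) {a b a' b' a₂ b₂ a₂' b₂' : F}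
    (hX : D.hypX c c' a b a' b' = D.hypX c c' a₂ b₂ a₂' b₂') (hY : D.hypY c c' a b a' b' = D.hypY c c' a₂ b₂ a₂' b₂') :
    a = a₂ ∧ b = b₂ ∧ a' = a₂' ∧ b' = b₂' := by
  have hγ := D.gamma_ne_zero hc hcc
  simp only [QuadData.hypX, QuadData.hypY] at hX hY
  have hs : D.hypS c c' a' b' = D.hypS c c' a₂' b₂' :=
    mul_left_cancel₀ (sub_ne_zero.mpr hcc) (by linear_combination hY - c * hX)
  have ht : D.lift a b = D.lift a₂ b₂ := by linear_combination hX - hs
  have hz : D.lift' a' b' = D.lift' a₂' b₂' := (div_left_inj' (mul_ne_zero D.eps_ne_zero hγ)).mp (D.bar.injective hs)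
  obtain ⟨h1, h2⟩ := D.coord_injective ht
  obtain ⟨h3, h4⟩ := D.lift'_injective hz
  exact ⟨h1, h2, h3, h4⟩

theorem QuadData.hypS_add (c c' : K) (a b a' b' : F) :
    D.hypS c c' (a + a') (b + b') = D.hypS c c' a b + D.hypS c c' a' b' := by
  rw [QuadData.hypS, QuadData.hypS, QuadData.hypS, D.lift'_add, add_div, map_add]

theorem QuadData.hypS_smul (c c' : K) (r a b : F) : D.hypS c c' (r * a) (r * b) = D.j r * D.hypS c c' a b := by
  rw [QuadData.hypS, QuadData.hypS, D.lift'_smul, mul_div_assoc, map_mul, D.bar_j]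

theorem QuadData.hypX_add (c c' : K) (a b a' b' p r p' r' : F) :
    D.hypX c c' (a + p) (b + r) (a' + p') (b' + r') = D.hypX c c' a b a' b' + D.hypX c c' p r p' r' := by
  rw [QuadData.hypX, D.lift_add, D.hypS_add, QuadData.hypX, QuadData.hypX]; ring

theorem QuadData.hypY_add (c c' : K) (a b a' b' p r p' r' : F) :
    D.hypY c c' (a + p) (b + r) (a' + p') (b' + r') = D.hypY c c' a b a' b' + D.hypY c c' p r p' r' := by
  rw [QuadData.hypY, D.lift_add, D.hypS_add, QuadData.hypY, QuadData.hypY]; ring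

theorem QuadData.hypX_smul (c c' : K) (r a b a' b' : F) :
    D.hypX c c' (r * a) (r * b) (r * a') (r * b') = D.j r * D.hypX c c' a b a' b' := by
  rw [QuadData.hypX, D.lift_smul, D.hypS_smul, QuadData.hypX]; ring

theorem QuadData.hypY_smul (c c' : K) (r a b a' b' : F) :
    D.hypY c c' (r * a) (r * b) (r * a') (r * b') = D.j r * D.hypY c c' a b a' b' := by
  rw [QuadData.hypY, D.lift_smul, D.hypS_smul, QuadData.hypY]; ring

/-- An injective semilinear coordinate change between spaces of equal size is an additive equivalence. -/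
theorem exists_addEquiv {ι κ : Type} [Fintype ι] [Fintype κ] [Finite F] [Finite K] (j : F →+* K)
    (f : (κ → F) → (ι → K)) (hadd : ∀ x y, f (x + y) = f x + f y) (hsmul : ∀ (c : F) x, f (c • x) = j c • f x)
    (hinj : Function.Injective f) (hcard : Nat.card (κ → F) = Nat.card (ι → K)) :
    ∃ e : (κ → F) ≃+ (ι → K), (∀ x, e x = f x) ∧ ∀ (c : F) x, e (c • x) = j c • e x :=
  ⟨AddEquiv.ofBijective (AddMonoidHom.mk' f hadd) ((Nat.bijective_iff_injective_and_card _).mpr ⟨hinj, hcard⟩),
    fun _ => rfl, hsmul⟩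

end Cfsg.Agent.Lib.Embed
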