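import Mathlib

/-!
A quadratic extension of finite fields given by two fields of orders `q` and `q ^ 2`: the embedding, the involution,
coordinates, norms, and transport of matrix groups along a semilinear bijection of coordinate spaces.
-/

set_option autoImplicit false

namespace Cfsg.Agent.Lib.Embed

/-- The data of a quadratic extension `K/F` of finite fields. -/
structure QuadData (F K : Type*) [Field F] [Field K] (q : ℕ) where
  j : F →+* K
  bar : K →+* K
  bar_eq : ∀ x, bar x = x ^ q
  bar_bar : ∀ x, bar (bar x) = x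
  fixed : ∀ x, bar x = x → ∃ a, j a = x
  bar_j : ∀ a, bar (j a) = j a
  α : K
  bar_α : bar α ≠ α

variable {F K : Type*} [Field F] [Field K]

theorem nonempty_quadData [Fintype F] [Fintype K] {q : ℕ} (hK : Fintype.card K = q ^ 2) (hF : Fintype.card F = q) :
    Nonempty (QuadData F K q) := by
  classical
  obtain ⟨p, hp⟩ := CharP.exists F
  obtain ⟨f, hpp, hf⟩ := FiniteField.card F p
  have : Fact p.Prime := ⟨hpp⟩
  have hq : q = p ^ (f : ℕ) := hF ▸ hf
  have : CharP K p := by
    have h0 : ((p : ℕ) : K) = 0 := by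
      have := FiniteField.cast_card_eq_zero K
      rw [hK, hq, ← pow_mul, Nat.cast_pow] at this
      exact eq_zero_of_pow_eq_zero this
    obtain ⟨r, hr⟩ := CharP.exists K
    rw [CharP.cast_eq_zero_iff K r] at h0
    have hrp : r.Prime := (CharP.char_is_prime_or_zero K r).resolve_right fun h => by
      subst h
      exact hpp.ne_zero (zero_dvd_iff.mp h0)
    rwa [(Nat.prime_dvd_prime_iff_eq hrp hpp).mp h0] at hr
  letI := ZMod.algebra F p
  letI := ZMod.algebra K p
  have hdvd : Module.finrank (ZMod p) F ∣ Module.finrank (ZMod p) K := by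
    have h1 := Module.natCard_eq_pow_finrank (K := ZMod p) (V := F)
    have h2 := Module.natCard_eq_pow_finrank (K := ZMod p) (V := K)
    rw [Nat.card_eq_fintype_card, Nat.card_zmod, hF, hq] at h1
    rw [Nat.card_eq_fintype_card, Nat.card_zmod, hK, hq, ← pow_mul] at h2
    rw [← Nat.pow_right_injective hpp.two_le h1, ← Nat.pow_right_injective hpp.two_le h2]
    exact dvd_mul_right _ _
  obtain ⟨φ⟩ := FiniteField.nonempty_algHom_of_finrank_dvd (F := ZMod p) hdvd
  let j : F →+* K := φ.toRingHom
  let bar : K →+* K := iterateFrobenius K p f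
  have hbar : ∀ x, bar x = x ^ q := fun x => by rw [hq]; exact iterateFrobenius_def p f x
  have hbj : ∀ a, bar (j a) = j a := fun a => by rw [hbar, ← map_pow, ← hF, FiniteField.pow_card]
  have hfix : Finset.univ.filter (fun x : K => bar x = x) = Finset.univ.image j := by
    refine (Finset.eq_of_subset_of_card_le (fun x hx => ?_) ?_).symm
    · obtain ⟨a, -, rfl⟩ := Finset.mem_image.mp hx
      exact Finset.mem_filter.mpr ⟨Finset.mem_univ _, hbj a⟩
    · rw [Finset.card_image_of_injective _ j.injective, Finset.card_univ, hF]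
      have hX : (Polynomial.X ^ q - Polynomial.X : Polynomial K) ≠ 0 :=
        FiniteField.X_pow_card_sub_X_ne_zero K (hF ▸ Fintype.one_lt_card)
      calc _ ≤ (Polynomial.X ^ q - Polynomial.X : Polynomial K).roots.toFinset.card := Finset.card_le_card fun x hx => by
            rw [Multiset.mem_toFinset, Polynomial.mem_roots hX]
            simpa [Polynomial.IsRoot, sub_eq_zero, hbar] using (Finset.mem_filter.mp hx).2
        _ ≤ _ := Multiset.toFinset_card_le _
        _ ≤ _ := Polynomial.card_roots' _
        _ = q := FiniteField.X_pow_card_sub_X_natDegree_eq K (hF ▸ Fintype.one_lt_card)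
  obtain ⟨α, hα⟩ : ∃ α, bar α ≠ α := by
    by_contra! h
    have : Finset.univ.image j = Finset.univ := by rw [← hfix, Finset.filter_true_of_mem fun x _ => h x]
    have := congrArg Finset.card this
    rw [Finset.card_image_of_injective _ j.injective, Finset.card_univ, Finset.card_univ, hF, hK] at this
    have : 1 < q := hF ▸ Fintype.one_lt_card
    nlinarith
  refine ⟨⟨j, bar, hbar, fun x => ?_, fun x hx => ?_, hbj, α, hα⟩⟩
  · rw [hbar, hbar, ← pow_mul, ← sq, ← hK, FiniteField.pow_card]
  · have : x ∈ Finset.univ.image j := hfix ▸ Finset.mem_filter.mpr ⟨Finset.mem_univ _, hx⟩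
    exact (Finset.mem_image.mp this).imp fun a ha => ha.2

variable {q : ℕ}

theorem QuadData.eps_ne_zero (D : QuadData F K q) : D.α - D.bar D.α ≠ 0 := sub_ne_zero.mpr D.bar_α.symm

theorem QuadData.bar_eps (D : QuadData F K q) : D.bar (D.α - D.bar D.α) = -(D.α - D.bar D.α) := by
  rw [map_sub, D.bar_bar]; ring

/-- Coordinates with respect to `1, α`. -/
theorem QuadData.coord_injective (D : QuadData F K q) {a b a' b' : F}
    (h : D.j a + D.j b * D.α = D.j a' + D.j b' * D.α) : a = a' ∧ b = b' := by
  have h' := congrArg D.bar h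
  simp only [map_add, map_mul, D.bar_j] at h'
  have hb : (D.j b - D.j b') * (D.α - D.bar D.α) = 0 := by linear_combination h - h'
  have hb' := D.j.injective (sub_eq_zero.mp ((mul_eq_zero.mp hb).resolve_right D.eps_ne_zero))
  subst hb'
  exact ⟨D.j.injective (add_right_cancel h), rfl⟩

theorem QuadData.exists_root [Fintype F] [Fintype K] (D : QuadData F K q) (hK : Fintype.card K = q ^ 2)
    (hF : Fintype.card F = q) (a b : F)
    (hab : ∀ z₁ z₂ : F, z₁ ^ 2 + a * z₁ * z₂ + b * z₂ ^ 2 = 0 → z₁ = 0 ∧ z₂ = 0) :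
    ∃ θ : K, θ + D.bar θ = -D.j a ∧ θ * D.bar θ = D.j b ∧ D.bar θ ≠ θ := by
  letI := D.j.toAlgebra
  have hj : algebraMap F K = D.j := rfl
  have hd : (Polynomial.X ^ 2 + Polynomial.C a * Polynomial.X + Polynomial.C b : Polynomial F).natDegree = 2 := by
    compute_degree!
  have hirr : Irreducible (Polynomial.X ^ 2 + Polynomial.C a * Polynomial.X + Polynomial.C b : Polynomial F) := by
    refine Polynomial.irreducible_of_degree_le_three_of_not_isRoot (Finset.mem_Icc.mpr (by omega)) fun z hz => ?_
    simp only [Polynomial.IsRoot, Polynomial.eval_add, Polynomial.eval_mul, Polynomial.eval_pow, Polynomial.eval_X,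
      Polynomial.eval_C] at hz
    exact one_ne_zero (hab z 1 (by linear_combination hz)).2
  have : Fact (Irreducible (Polynomial.X ^ 2 + Polynomial.C a * Polynomial.X + Polynomial.C b : Polynomial F)) := ⟨hirr⟩
  have : Module.Finite F (AdjoinRoot (Polynomial.X ^ 2 + Polynomial.C a * Polynomial.X + Polynomial.C b : Polynomial F)) :=
    (AdjoinRoot.powerBasis hirr.ne_zero).finite
  have : Finite (AdjoinRoot (Polynomial.X ^ 2 + Polynomial.C a * Polynomial.X + Polynomial.C b : Polynomial F)) :=
    Module.finite_of_finite F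
  have hrK : Module.finrank F K = 2 := by
    have h := Module.natCard_eq_pow_finrank (K := F) (V := K)
    rw [Nat.card_eq_fintype_card, Nat.card_eq_fintype_card, hF, hK] at h
    exact (Nat.pow_right_injective (hF ▸ Fintype.one_lt_card) h).symm
  obtain ⟨φ⟩ := FiniteField.nonempty_algHom_of_finrank_dvd (F := F)
    (K := AdjoinRoot (Polynomial.X ^ 2 + Polynomial.C a * Polynomial.X + Polynomial.C b : Polynomial F)) (L := K) (by
      rw [hrK, (AdjoinRoot.powerBasis hirr.ne_zero).finrank, AdjoinRoot.powerBasis_dim, hd])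
  set θ := φ (AdjoinRoot.root _) with hθdef
  have hθ : θ ^ 2 + D.j a * θ + D.j b = 0 := by
    have e : Polynomial.aeval θ (Polynomial.X ^ 2 + Polynomial.C a * Polynomial.X + Polynomial.C b : Polynomial F) = 0 := by
      rw [hθdef, Polynomial.aeval_algHom_apply, AdjoinRoot.aeval_eq, AdjoinRoot.mk_self, map_zero]
    simp only [map_add, map_mul, map_pow, Polynomial.aeval_X, Polynomial.aeval_C, hj] at e
    exact e
  have hne : D.bar θ ≠ θ := by
    intro h
    obtain ⟨z, hz⟩ := D.fixed θ h
    refine one_ne_zero (hab z 1 (D.j.injective ?_)).2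
    rw [← hz] at hθ
    simpa [sq] using hθ
  have hθ' := congrArg D.bar hθ
  simp only [map_add, map_mul, map_pow, map_zero, D.bar_j] at hθ'
  have hsum : θ + D.bar θ = -D.j a := by
    refine mul_left_cancel₀ (sub_ne_zero.mpr hne) ?_
    linear_combination hθ' - hθ
  exact ⟨θ, hsum, by linear_combination θ * hsum - hθ, hne⟩

theorem QuadData.exists_norm_neg_one [Fintype K] (D : QuadData F K q) (hK : Fintype.card K = q ^ 2) :
    ∃ c c' : K, c * D.bar c = -1 ∧ c' * D.bar c' = -1 ∧ c' ≠ c := by
  classical
  have hq : 1 < q := by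
    by_contra h
    have hc := Fintype.one_lt_card (α := K)
    rw [hK] at hc
    interval_cases q <;> simp at hc
  obtain ⟨g, hg⟩ := IsCyclic.exists_generator (α := Kˣ)
  obtain ⟨k, hk⟩ := Subgroup.mem_zpowers_iff.mp (hg (-1))
  have hord : orderOf g = q ^ 2 - 1 := by
    rw [orderOf_eq_card_of_forall_mem_zpowers hg, Nat.card_units, Nat.card_eq_fintype_card, hK]
  have hneg : ((-1 : Kˣ) : Kˣ) ^ ((q : ℤ) - 1) = 1 := by
    have h := D.bar_eq (-1)
    rw [map_neg, map_one] at h
    rw [zpow_sub, zpow_natCast, zpow_one, mul_inv_eq_one]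
    exact Units.ext (by simpa using h.symm)
  rw [← hk, ← zpow_mul, ← orderOf_dvd_iff_zpow_eq_one, hord] at hneg
  obtain ⟨t, rfl⟩ : ((q : ℤ) + 1) ∣ k := by
    refine Int.dvd_of_mul_dvd_mul_right (show ((q : ℤ) - 1) ≠ 0 by omega) ?_
    refine dvd_trans (dvd_of_eq ?_) hneg
    rw [Nat.cast_sub (Nat.one_le_pow _ _ (by omega))]
    push_cast; ring
  have hc : ((g ^ t : Kˣ) : K) * D.bar ((g ^ t : Kˣ) : K) = -1 := by
    rw [D.bar_eq, ← pow_succ', ← Units.val_pow_eq_pow_val, ← zpow_natCast, ← zpow_mul,
      show t * ((q + 1 : ℕ) : ℤ) = ((q : ℤ) + 1) * t by push_cast; ring, hk]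
    simp
  have hα : D.α ≠ 0 := fun h => D.bar_α (by rw [h, map_zero])
  have hbα : D.bar D.α ≠ 0 := fun h => hα (by rw [← D.bar_bar D.α, h, map_zero])
  refine ⟨_, ((g ^ t : Kˣ) : K) * (D.α / D.bar D.α), hc, ?_, fun h => D.bar_α ?_⟩
  · rw [map_mul, map_div₀, D.bar_bar]
    field_simp
    linear_combination hc
  · have := mul_left_cancel₀ (Units.ne_zero (g ^ t)) (h.trans (mul_one _).symm)
    exact ((div_eq_one_iff_eq hbα).mp this).symm

section transport

variable {ι κ : Type} [Fintype ι] [DecidableEq ι] [Fintype κ] [DecidableEq κ]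

/-- The map on matrices induced by a semilinear bijection of coordinate spaces. -/
noncomputable def restrictMat (j : F →+* K) (e : (κ → F) ≃+ (ι → K)) (he : ∀ (c : F) x, e (c • x) = j c • e x) :
    Matrix ι ι K →* Matrix κ κ F where
  toFun g := LinearMap.toMatrix'
    { toFun := fun x => e.symm (g.mulVec (e x))
      map_add' := fun x y => by simp [Matrix.mulVec_add]
      map_smul' := fun c x => e.injective (by simp [he, Matrix.mulVec_smul]) }
  map_one' := by
    refine Matrix.toLin'.injective (LinearMap.ext fun x => ?_)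
    rw [Matrix.toLin'_toMatrix', Matrix.toLin'_one]
    simp
  map_mul' g h := by
    refine Matrix.toLin'.injective (LinearMap.ext fun x => ?_)
    rw [Matrix.toLin'_toMatrix', Matrix.toLin'_mul, Matrix.toLin'_toMatrix', Matrix.toLin'_toMatrix']
    simp [Matrix.mulVec_mulVec]

theorem apply_restrictMat (j : F →+* K) (e : (κ → F) ≃+ (ι → K)) (he : ∀ (c : F) x, e (c • x) = j c • e x)
    (g : Matrix ι ι K) (x : κ → F) : e ((restrictMat j e he g).mulVec x) = g.mulVec (e x) := by
  rw [← Matrix.toLin'_apply]
  show e (Matrix.toLin' (LinearMap.toMatrix' _) x) = _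
  rw [Matrix.toLin'_toMatrix']
  exact e.apply_symm_apply _

theorem restrictMat_injective (j : F →+* K) (e : (κ → F) ≃+ (ι → K)) (he : ∀ (c : F) x, e (c • x) = j c • e x) :
    Function.Injective (restrictMat j e he) := by
  intro g h hgh
  refine Matrix.ext_of_mulVec_single fun i => ?_
  obtain ⟨x, hx⟩ := e.surjective (Pi.single i 1)
  rw [← hx, ← apply_restrictMat j e he, ← apply_restrictMat j e he, hgh]

end transport

end Cfsg.Agent.Lib.Embed
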